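import Cfsg.Agent.FourTwo.LiftInv
import Cfsg.Agent.LThreeFfour.Form

/-!
# `F₄(2)`: an element of even order commutes with a root element

`exists_conj_par`; `exists_conj_short`: the long case only for elements commuting with a long root element.
-/

set_option autoImplicit false

namespace Cfsg.Agent.H824.Fs

open Cfsg.Agent.FourTwo.Base hiding bar_lt x_mul_self
open Cfsg.Agent.FourTwo.Cent Cfsg.Agent.FourTwo.Classes

/-- the centralizer of an involution is in the centralizer of a root element -/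
theorem cent_inv {t : LL} (h2 : t * t = 1) (h1 : t ≠ 1) : ∃ y : LL,
    (∀ g : LL, g * t = t * g → y * g * y⁻¹ ∈ Ps) ∨ (∀ g : LL, g * t = t * g → y * g * y⁻¹ ∈ Pl) := by
  have key : ∀ (y s g : LL), y * t * y⁻¹ = s → g * t = t * g → (y * g * y⁻¹) * s = s * (y * g * y⁻¹) := by
    intro y s g e hg
    rw [← e]
    calc y * g * y⁻¹ * (y * t * y⁻¹) = y * (g * t) * y⁻¹ := by group
      _ = y * (t * g) * y⁻¹ := by rw [hg]
      _ = y * t * y⁻¹ * (y * g * y⁻¹) := by group
  have hs : ∀ g : LL, g * x 44 = x 44 * g → g ∈ Ps := by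
    intro g hg
    rw [← cent_short, Subgroup.mem_centralizer_singleton_iff]
    exact hg
  have hl : ∀ g : LL, g * x 47 = x 47 * g → g ∈ Pl := by
    intro g hg
    rw [← cent_long, Subgroup.mem_centralizer_singleton_iff]
    exact hg
  obtain ⟨y, hy⟩ := exists_class h2 h1
  rcases hy with e | e | e | e
  · exact ⟨y, Or.inl fun g hg => hs _ (key y _ g e hg)⟩
  · exact ⟨y, Or.inr fun g hg => hl _ (key y _ g e hg)⟩
  · exact ⟨y, Or.inl fun g hg => hs _ (Cfsg.Agent.FourTwo.LiftInv.cent_c (key y _ g e hg))⟩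
  · exact ⟨y, Or.inl fun g hg => hs _ (Cfsg.Agent.LThreeFfour.Form.comm_of_sq (key y _ g e hg))⟩

/-- **(E)** every element of even order is conjugate into the centralizer of a root element -/
theorem exists_conj_par (g : LL) (hg : Even (orderOf g)) : ∃ x : LL, x * g * x⁻¹ ∈ Ps ∨ x * g * x⁻¹ ∈ Pl := by
  obtain ⟨k, hk⟩ := hg
  have hpos : 0 < orderOf g := orderOf_pos g
  have h2 : g ^ k * g ^ k = 1 := by rw [← pow_add, ← hk, pow_orderOf_eq_one]
  have h1 : g ^ k ≠ 1 := fun h => by
    have h3 := Nat.le_of_dvd (by omega) (orderOf_dvd_of_pow_eq_one h)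
    omega
  obtain ⟨y, hy⟩ := cent_inv h2 h1
  have hc : g * g ^ k = g ^ k * g := (pow_mul_comm' g k).symm
  rcases hy with hy | hy
  · exact ⟨y, Or.inl (hy g hc)⟩
  · exact ⟨y, Or.inr (hy g hc)⟩

end Cfsg.Agent.H824.Fs
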