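import Cfsg.Agent.H612.Ore.SpCover

/-!
# Centralizers of elements of odd order in `Sp₆(2)`

`card_cent_sp_odd` : `|C(l)| ≤ 2252` for `l ≠ 1` of odd order (the maximum is `2160`).
-/

set_option autoImplicit false

namespace Cfsg.Agent.H824.Fs

open Cfsg Cfsg.Agent.H612.Ore
open Cfsg.Agent.SporRec.TwoSp6.Sp (V S act act_one act_mul enc exists_enc)

/-- the invariants of an image of `b` under an element that commutes with the matrix of code `c` and fixes `ps` -/
def ok (c : ℕ) (ps : List ℕ) (b y : ℕ) : Bool :=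
  ((y == 0) == (b == 0)) && ((apc 6 c y == y) == (apc 6 c b == b)) && (B6 y (apc 6 c y) == B6 b (apc 6 c b)) &&
    ps.all fun p => (B6 y p == B6 b p) && (B6 y (apc 6 c p) == B6 b (apc 6 c p)) &&
      ((y == apc 6 c p) == (b == apc 6 c p))

/-- the candidates -/
def cands (c : ℕ) (ps : List ℕ) (b : ℕ) : List ℕ := (List.range 64).filter (ok c ps b)

/-- the product of the numbers of candidates -/
def bnd (c : ℕ) : List ℕ → List ℕ → ℕ
  | _, [] => 1
  | ps, b :: bs => (cands c ps b).length * bnd c (b :: ps) bs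

/-- the span of a list of codes -/
def spn : List ℕ → List ℕ
  | [] => [0]
  | b :: bs => spn bs ++ (spn bs).map (b ^^^ ·)

instance actV : MulAction S V where
  smul g v := act g v
  one_smul v := act_one v
  mul_smul g h v := act_mul g h v

theorem smul_def (g : S) (v : V) : g • v = act g v := rfl

theorem inv_act {g : S} {v : V} (h : g • v = v) : g⁻¹ • v = v := by
  rw [smul_def] at h ⊢
  have h1 : act (g⁻¹ * g) v = v := by rw [inv_mul_cancel, act_one]
  rwa [act_mul, h] at h1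

theorem smul_enc (g : S) (v : ℕ) : g • enc v = enc (spAct.ap g v) := by
  rw [smul_def, spAct_ap, enc_cd]

/-- the elements commuting with `s` and fixing all the codes of `ps` -/
def Hs (s : S) (ps : List ℕ) : Subgroup S where
  carrier := {g | g * s = s * g ∧ ∀ p ∈ ps, g • enc p = enc p}
  one_mem' := ⟨by rw [one_mul, mul_one], fun p _ => one_smul _ _⟩
  mul_mem' := by
    rintro g h ⟨hg, hg'⟩ ⟨hh, hh'⟩
    refine ⟨by rw [mul_assoc, hh, ← mul_assoc, hg, mul_assoc], fun p hp => ?_⟩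
    show act (g * h) (enc p) = enc p
    rw [act_mul]
    have h1 := hh' p hp
    have h2 := hg' p hp
    rw [smul_def] at h1 h2
    rw [h1, h2]
  inv_mem' := by
    rintro g ⟨hg, hg'⟩
    refine ⟨?_, fun p hp => ?_⟩
    · have h1 : g⁻¹ * (g * s) * g⁻¹ = g⁻¹ * (s * g) * g⁻¹ := by rw [hg]
      calc g⁻¹ * s = g⁻¹ * (s * g) * g⁻¹ := by group
        _ = g⁻¹ * (g * s) * g⁻¹ := h1.symm
        _ = s * g⁻¹ := by group
    · exact inv_act (hg' p hp)

theorem mem_Hs {s g : S} {ps : List ℕ} : g ∈ Hs s ps ↔ g * s = s * g ∧ ∀ p ∈ ps, g • enc p = enc p := Iff.rfl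

theorem ok_of_mem {s : S} {c : ℕ} (hc : spAct.Rep s c) {ps : List ℕ} (hps : ∀ p ∈ ps, p < 64) {b : ℕ} (hb : b < 64)
    {g : S} (hg : g ∈ Hs s ps) : ok c ps b (spAct.ap g b) = true := by
  obtain ⟨hg1, hg2⟩ := hg
  have hlt : ∀ v, v < 64 → spAct.ap g v < 64 := fun v hv => spAct.lt g v hv
  have hslt : ∀ v, v < 64 → spAct.ap s v < 64 := fun v hv => spAct.lt s v hv
  have hs : ∀ v, v < 64 → apc 6 c v = spAct.ap s v := fun v hv => (spAct.ap_eq hc hv).symm
  have hcomm : ∀ v, v < 64 → spAct.ap s (spAct.ap g v) = spAct.ap g (spAct.ap s v) := by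
    intro v hv
    rw [← spAct.mul _ _ _ hv, ← spAct.mul _ _ _ hv, hg1]
  have hinj : ∀ u v, u < 64 → v < 64 → (spAct.ap g u == spAct.ap g v) = (u == v) := by
    intro u v hu hv
    rw [Bool.eq_iff_iff, beq_iff_eq, beq_iff_eq]
    exact ⟨fun h => spAct.inj g hu hv h, fun h => by rw [h]⟩
  have hfix : ∀ p ∈ ps, spAct.ap g p = p := by
    intro p hp
    have h1 := hg2 p hp
    rw [smul_enc] at h1
    exact enc_inj (hlt p (hps p hp)) (hps p hp) h1
  have hB := spAct.formB g
  have h0 : spAct.ap g 0 = 0 := spAct.ap_zero g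
  rw [ok, Bool.and_eq_true, Bool.and_eq_true, Bool.and_eq_true]
  refine ⟨⟨⟨?_, ?_⟩, ?_⟩, ?_⟩
  · rw [beq_iff_eq]
    calc (spAct.ap g b == 0) = (spAct.ap g b == spAct.ap g 0) := by rw [h0]
      _ = (b == 0) := hinj b 0 hb (by norm_num)
  · rw [beq_iff_eq, hs _ (hlt b hb), hs _ hb, hcomm b hb, hinj _ _ (hslt b hb) hb]
  · rw [beq_iff_eq, hs _ (hlt b hb), hs _ hb, hcomm b hb, hB _ _ hb (hslt b hb)]
  · rw [List.all_eq_true]
    intro p hp
    have hp6 := hps p hp
    have hfs : spAct.ap g (spAct.ap s p) = spAct.ap s p := by rw [← hcomm p hp6, hfix p hp]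
    rw [Bool.and_eq_true, Bool.and_eq_true]
    refine ⟨⟨?_, ?_⟩, ?_⟩
    · rw [beq_iff_eq]
      calc B6 (spAct.ap g b) p = B6 (spAct.ap g b) (spAct.ap g p) := by rw [hfix p hp]
        _ = B6 b p := hB _ _ hb hp6
    · rw [beq_iff_eq, hs p hp6]
      calc B6 (spAct.ap g b) (spAct.ap s p) = B6 (spAct.ap g b) (spAct.ap g (spAct.ap s p)) := by rw [hfs]
        _ = B6 b (spAct.ap s p) := hB _ _ hb (hslt p hp6)
    · rw [beq_iff_eq, hs p hp6]
      calc (spAct.ap g b == spAct.ap s p) = (spAct.ap g b == spAct.ap g (spAct.ap s p)) := by rw [hfs]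
        _ = (b == spAct.ap s p) := hinj _ _ hb (hslt p hp6)

theorem card_step {s : S} {c : ℕ} (hc : spAct.Rep s c) {ps : List ℕ} (hps : ∀ p ∈ ps, p < 64) {b : ℕ} (hb : b < 64) :
    Nat.card ↥(Hs s ps) ≤ (cands c ps b).length * Nat.card ↥(Hs s (b :: ps)) := by
  classical
  have h1 : Nat.card ↥(Hs s ps) = Nat.card (↥(Hs s ps) ⧸ MulAction.stabilizer ↥(Hs s ps) (enc b)) *
      Nat.card ↥(MulAction.stabilizer ↥(Hs s ps) (enc b)) := Subgroup.card_eq_card_quotient_mul_card_subgroup _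
  have h2 : Nat.card (↥(Hs s ps) ⧸ MulAction.stabilizer ↥(Hs s ps) (enc b)) ≤ (cands c ps b).length := by
    rw [Nat.card_congr (MulAction.orbitEquivQuotientStabilizer ↥(Hs s ps) (enc b)).symm, Nat.card_coe_set_eq]
    have hsub : MulAction.orbit ↥(Hs s ps) (enc b) ⊆ (((cands c ps b).map enc).toFinset : Set V) := by
      rintro _ ⟨g, rfl⟩
      rw [Finset.mem_coe, List.mem_toFinset, List.mem_map]
      refine ⟨spAct.ap (g : S) b, ?_, ?_⟩
      · rw [cands, List.mem_filter, List.mem_range]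
        exact ⟨spAct.lt _ _ hb, ok_of_mem hc hps hb g.2⟩
      · exact (smul_enc (g : S) b).symm
    calc (MulAction.orbit ↥(Hs s ps) (enc b)).ncard ≤ (((cands c ps b).map enc).toFinset : Set V).ncard :=
          Set.ncard_le_ncard hsub (Finset.finite_toSet _)
      _ = ((cands c ps b).map enc).toFinset.card := Set.ncard_coe_finset _
      _ ≤ ((cands c ps b).map enc).length := List.toFinset_card_le _
      _ = (cands c ps b).length := List.length_map _
  have h3 : Nat.card ↥(MulAction.stabilizer ↥(Hs s ps) (enc b)) ≤ Nat.card ↥(Hs s (b :: ps)) := by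
    refine Nat.card_le_card_of_injective
      (fun g => (⟨((g : ↥(Hs s ps)) : S), ?_⟩ : ↥(Hs s (b :: ps)))) ?_
    · refine ⟨(g : ↥(Hs s ps)).2.1, fun p hp => ?_⟩
      rcases List.mem_cons.1 hp with rfl | hp
      · exact g.2
      · exact (g : ↥(Hs s ps)).2.2 p hp
    · intro g h e
      apply Subtype.ext
      apply Subtype.ext
      exact congrArg (fun z : ↥(Hs s (b :: ps)) => (z : S)) e
  rw [h1]
  exact Nat.mul_le_mul h2 h3

theorem card_le_bnd {s : S} {c : ℕ} (hc : spAct.Rep s c) : ∀ (bs ps : List ℕ), (∀ p ∈ ps, p < 64) →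
    (∀ p ∈ bs, p < 64) → (∀ g : S, g ∈ Hs s (bs.reverse ++ ps) → g = 1) → Nat.card ↥(Hs s ps) ≤ bnd c ps bs
  | [], ps, _, _, h1 => by
    rw [bnd]
    have : Subsingleton ↥(Hs s ps) := ⟨fun g h => Subtype.ext (by rw [h1 g g.2, h1 h h.2])⟩
    exact (Nat.card_of_subsingleton (1 : ↥(Hs s ps))).le
  | b :: bs, ps, hps, hbs, h1 => by
    have hb : b < 64 := hbs b List.mem_cons_self
    refine (card_step hc hps hb).trans ?_
    rw [bnd]
    refine Nat.mul_le_mul_left _ (card_le_bnd hc bs (b :: ps) ?_ (fun p hp => hbs p (List.mem_cons_of_mem _ hp)) ?_)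
    · intro p hp
      rcases List.mem_cons.1 hp with rfl | hp
      · exact hb
      · exact hps p hp
    · intro g hg
      refine h1 g ?_
      rwa [List.reverse_cons, List.append_assoc, List.singleton_append]

theorem fix_spn {g : S} : ∀ {bs : List ℕ}, (∀ p ∈ bs, g • enc p = enc p) → ∀ v ∈ spn bs, g • enc v = enc v
  | [], _, v, hv => by
    rw [spn, List.mem_singleton] at hv
    subst hv
    rw [smul_enc, spAct.ap_zero]
  | b :: bs, h, v, hv => by
    have ih := fix_spn (bs := bs) (fun p hp => h p (List.mem_cons_of_mem _ hp))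
    rw [spn, List.mem_append, List.mem_map] at hv
    rcases hv with hv | ⟨w, hw, rfl⟩
    · exact ih v hv
    · show g • enc (b ^^^ w) = enc (b ^^^ w)
      rw [Cfsg.Agent.SporRec.TwoSp6.Sp.enc_xor, smul_def, Cfsg.Agent.SporRec.TwoSp6.Sp.act_add, ← smul_def, ← smul_def,
        h b List.mem_cons_self, ih w hw]

/-- the base is good: small codes that generate the space, product of the numbers of candidates at most `N` -/
def okBase (c : ℕ) (bs : List ℕ) (N : ℕ) : Bool :=
  (bs.all fun b => Nat.blt b 64) && ((List.range 6).all fun i => (spn bs.reverse).elem (2 ^ i)) &&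
    Nat.ble (bnd c [] bs) N

theorem card_le_of_okBase {s : S} {c : ℕ} (hc : spAct.Rep s c) {bs : List ℕ} {N : ℕ} (h : okBase c bs N = true) :
    Nat.card ↥(Subgroup.centralizer {s}) ≤ N := by
  rw [okBase, Bool.and_eq_true, Bool.and_eq_true] at h
  obtain ⟨⟨h1, h2⟩, h3⟩ := h
  have hbs : ∀ p ∈ bs, p < 64 := fun p hp => by
    have := List.all_eq_true.1 h1 p hp
    rwa [Nat.blt_eq] at this
  have h4 : Nat.card ↥(Hs s []) ≤ bnd c [] bs := by
    refine card_le_bnd hc bs [] (fun p hp => absurd hp List.not_mem_nil) hbs ?_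
    intro g hg
    rw [List.append_nil] at hg
    refine spAct.faithful g fun i hi => ?_
    have h5 := List.all_eq_true.1 h2 i (List.mem_range.2 hi)
    have h6 := fix_spn hg.2 (2 ^ i) (List.elem_iff.1 h5)
    rw [smul_enc] at h6
    have h7 : 2 ^ i < 64 := two_pow_lt (n := 6) hi
    exact enc_inj (spAct.lt _ _ h7) h7 h6
  have h8 : Subgroup.centralizer {s} ≤ Hs s [] := by
    intro g hg
    exact ⟨(Subgroup.mem_centralizer_singleton_iff.1 hg), fun p hp => absurd hp List.not_mem_nil⟩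
  exact ((Subgroup.card_le_of_le h8).trans h4).trans (Nat.le_of_ble_eq_true h3)

/-- iterates of a matrix code -/
def itc (c : ℕ) : ℕ → ℕ → ℕ
  | 0, v => v
  | k + 1, v => apc 6 c (itc c k v)

theorem itc_eq {s : S} {c : ℕ} (hc : spAct.Rep s c) {v : ℕ} (hv : v < 64) : ∀ k, itc c k v = spAct.ap (s ^ k) v
  | 0 => by rw [itc, pow_zero, spAct.one v hv]
  | k + 1 => by
    have ih := itc_eq hc hv k
    rw [itc, ih, pow_succ', spAct.mul _ _ _ hv, spAct.ap_eq hc (spAct.lt _ _ hv)]

/-- `k`: the element has even order `2 k` -/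
def okEven (c k : ℕ) : Bool :=
  ((List.range 6).all fun i => itc c (2 * k) (2 ^ i) == 2 ^ i) &&
    ((List.range 6).any fun i => !(itc c k (2 ^ i) == 2 ^ i))

theorem not_odd {s : S} {c k : ℕ} (hc : spAct.Rep s c) (h : okEven c k = true) : ¬ Odd (orderOf s) := by
  rw [okEven, Bool.and_eq_true] at h
  obtain ⟨h1, h2⟩ := h
  intro ho
  have h3 : s ^ (2 * k) = 1 := by
    refine spAct.faithful _ fun i hi => ?_
    have h4 := List.all_eq_true.1 h1 i (List.mem_range.2 hi)
    rw [← itc_eq hc (two_pow_lt (n := 6) hi)]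
    exact eq_of_beq h4
  have h5 : orderOf s ∣ 2 * k := orderOf_dvd_of_pow_eq_one h3
  have h6 : orderOf s ∣ k := (Nat.Coprime.dvd_mul_left (Nat.Coprime.symm (Nat.coprime_two_left.2 ho))).1 h5
  have h7 : s ^ k = 1 := orderOf_dvd_iff_pow_eq_one.1 h6
  obtain ⟨i, hi, h8⟩ := List.any_eq_true.1 h2
  rw [List.mem_range] at hi
  have h9 : itc c k (2 ^ i) = 2 ^ i := by
    rw [itc_eq hc (two_pow_lt (n := 6) hi), h7, spAct.one _ (two_pow_lt (n := 6) hi)]
  rw [h9] at h8
  simp at h8

/-- the data: `(k, [])` for a representative of even order `2 k`, `(0, base)` for odd order -/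
def dat : List (ℕ × List ℕ) := [(0, []), (1, []), (0, [2, 4, 16, 32, 1, 8]), (1, []), (2, []), (3, []), (1, []), (1, []),
  (0, [4, 34, 9, 10, 1, 16]), (2, []), (0, [16, 34, 1, 8, 2, 4]), (3, []), (3, []), (2, []), (3, []), (5, []), (4, []),
  (6, []), (3, []), (3, []), (0, [1, 58, 4, 11, 2, 16]), (6, []), (0, [1, 26, 16, 2, 4, 32]), (6, []), (2, []),
  (0, [2, 34, 54, 9, 3, 4]), (2, []), (4, []), (3, []), (0, [1, 36, 4, 8, 2, 16])]

/-- one representative -/
def okRep (i : ℕ) : Bool :=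
  let d := dat.getD i (0, [])
  let c := reps.getD i 0
  bif d.1 == 0 then okBase c d.2 2252 else okEven c d.1

theorem chk30 : ((List.range 29).all fun i => okRep (i + 1)) = true := by decide +kernel

theorem card_rep {i : ℕ} (hi : i < 30) (h0 : i ≠ 0) (ho : Odd (orderOf (wd tv (rws.getD i [])))) :
    Nat.card ↥(Subgroup.centralizer {wd tv (rws.getD i [])}) ≤ 2252 := by
  obtain ⟨j, rfl⟩ := Nat.exists_eq_succ_of_ne_zero h0
  have h1 := List.all_eq_true.1 chk30 j (List.mem_range.2 (by omega))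
  have hc := rep_r hi
  rw [okRep] at h1
  cases h2 : (dat.getD (j + 1) (0, [])).1 == 0
  · rw [h2, cond_false] at h1
    exact absurd ho (not_odd hc h1)
  · rw [h2, cond_true] at h1
    exact card_le_of_okBase hc h1

theorem card_cent_conj {G : Type*} [Group G] (g h : G) :
    Nat.card ↥(Subgroup.centralizer {h * g * h⁻¹}) = Nat.card ↥(Subgroup.centralizer {g}) := by
  refine (Nat.card_congr ?_).symm
  refine (MulAut.conj h).toEquiv.subtypeEquiv fun a => ?_
  rw [Subgroup.mem_centralizer_singleton_iff, Subgroup.mem_centralizer_singleton_iff]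
  show a * g = g * a ↔ h * a * h⁻¹ * (h * g * h⁻¹) = h * g * h⁻¹ * (h * a * h⁻¹)
  constructor
  · intro e
    calc h * a * h⁻¹ * (h * g * h⁻¹) = h * (a * g) * h⁻¹ := by group
      _ = h * (g * a) * h⁻¹ := by rw [e]
      _ = h * g * h⁻¹ * (h * a * h⁻¹) := by group
  · intro e
    calc a * g = h⁻¹ * (h * a * h⁻¹ * (h * g * h⁻¹)) * h := by group
      _ = h⁻¹ * (h * g * h⁻¹ * (h * a * h⁻¹)) * h := by rw [e]
      _ = g * a := by group

/-- an element `≠ 1` of odd order of `Sp₆(2)` has a centralizer of order at most `2252` (the maximum is `2160`) -/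
theorem card_cent_sp_odd (l : ↥(Matrix.symplecticGroup (Fin 3) (ZMod 2))) (h : l ≠ 1) (ho : Odd (orderOf l)) :
    Nat.card (Subgroup.centralizer {l}) ≤ 2252 := by
  obtain ⟨i, hi, k, e⟩ := exists_rep30 l
  have h0 : i ≠ 0 := by
    rintro rfl
    apply h
    have e1 : k * l * k⁻¹ = 1 := e
    calc l = k⁻¹ * (k * l * k⁻¹) * k := by group
      _ = 1 := by rw [e1]; group
  have ho' : Odd (orderOf (wd tv (rws.getD i []))) := by
    rw [← e]
    have : orderOf (k * l * k⁻¹) = orderOf l := orderOf_injective (MulAut.conj k).toMonoidHom (MulAut.conj k).injective l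
    rwa [this]
  have h1 := card_rep hi h0 ho'
  rw [← e, card_cent_conj] at h1
  exact h1

end Cfsg.Agent.H824.Fs
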